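import Mathlib.RingTheory.SimpleModule.Basic
import Mathlib.RingTheory.Artinian.Module
import Mathlib.RingTheory.Jacobson.Semiprimary
import Mathlib.LinearAlgebra.Dimension.Constructions
import Mathlib.LinearAlgebra.FiniteDimensional.Basic
import Mathlib.LinearAlgebra.Pi
import Mathlib.LinearAlgebra.Prod

/-!
# Cyclic modules over finite-dimensional algebras

A finite module some positive power of which is free of the same rank over a finite-dimensional
algebra is cyclic.
-/

universe u v w

namespace GrothLib.GalUnits21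

open Module

variable (k : Type u) [Field k] {R : Type v} [Ring R] [Algebra k R]

section Hom

variable {P : Type w} [AddCommGroup P] [Module k P] [Module R P] [IsScalarTower k R P]
  {X : Type*} [AddCommGroup X] [Module k X] [Module R X] [IsScalarTower k R X]

theorem finite_hom [FiniteDimensional k P] [FiniteDimensional k X] :
    FiniteDimensional k (P →ₗ[R] X) :=
  Module.Finite.of_injective
    ({ toFun := fun f => f.restrictScalars k
       map_add' := fun _ _ => rfl
       map_smul' := fun _ _ => rfl } : (P →ₗ[R] X) →ₗ[k] (P →ₗ[k] X))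
    (fun _ _ h => LinearMap.ext fun x => LinearMap.congr_fun h x)

end Hom

/-- Splitting off a direct factor from a surjection with a section. -/
theorem exists_prod_equiv {P S : Type*} [AddCommGroup P] [Module R P] [AddCommGroup S] [Module R S]
    (p : P →ₗ[R] S) (q : S →ₗ[R] P) (h : p ∘ₗ q = LinearMap.id) :
    Nonempty (P ≃ₗ[R] S × LinearMap.ker p) :=
  ⟨{ toFun := fun x => (p x, ⟨x - q (p x), LinearMap.mem_ker.mpr (by rw [map_sub, show p (q (p x)) = p x from LinearMap.congr_fun h (p x), sub_self])⟩)
     map_add' := fun x y => Prod.ext (map_add p x y) (Subtype.ext (by simp [add_sub_add_comm]))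
     map_smul' := fun c x => Prod.ext (map_smul p c x) (Subtype.ext (by simp [smul_sub]))
     invFun := fun y => q y.1 + y.2
     left_inv := fun x => by simp
     right_inv := fun ⟨a, b, hb⟩ => by
       have := LinearMap.congr_fun h a
       simp only [LinearMap.comp_apply, LinearMap.id_apply] at this
       simp [LinearMap.mem_ker.mp hb, this] }⟩

/-- A semisimple module receiving fewer maps into semisimple modules than `Q` is a quotient of `Q`. -/
theorem exists_surjective_of_finrank_hom_le {P : Type w} {Q : Type v} [AddCommGroup P] [Module k P]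
    [Module R P] [IsScalarTower k R P] [FiniteDimensional k P] [IsSemisimpleModule R P]
    [AddCommGroup Q] [Module k Q] [Module R Q] [IsScalarTower k R Q] [FiniteDimensional k Q]
    [IsSemisimpleModule R Q]
    (h : ∀ (X : Type w) [AddCommGroup X] [Module k X] [Module R X] [IsScalarTower k R X]
      [FiniteDimensional k X] [IsSemisimpleModule R X],
      finrank k (P →ₗ[R] X) ≤ finrank k (Q →ₗ[R] X)) :
    ∃ f : Q →ₗ[R] P, Function.Surjective f := by
  induction hn : finrank k P using Nat.strong_induction_on generalizing P Q with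
  | _ n ih =>
    by_cases hP : Subsingleton P
    · exact ⟨0, fun y => ⟨0, Subsingleton.elim _ _⟩⟩
    rw [not_subsingleton_iff_nontrivial] at hP
    have : Module.Finite R P := Module.Finite.of_restrictScalars_finite k R P
    obtain ⟨N, hN, -⟩ := (eq_top_or_exists_le_coatom (⊥ : Submodule R P)).resolve_left bot_ne_top
    have hS : IsSimpleModule R (P ⧸ N) := isSimpleModule_iff_isCoatom.mpr hN
    have hfS : FiniteDimensional k (P ⧸ N) :=
      Module.Finite.of_surjective (N.mkQ.restrictScalars k) N.mkQ_surjective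
    have : Nontrivial (P ⧸ N) := IsSimpleModule.nontrivial R (P ⧸ N)
    -- `Q` also surjects onto `P ⧸ N`
    obtain ⟨g, hg⟩ : ∃ g : Q →ₗ[R] P ⧸ N, g ≠ 0 := by
      by_contra! hg
      have h0 : finrank k (Q →ₗ[R] P ⧸ N) = 0 := by
        have : Subsingleton (Q →ₗ[R] P ⧸ N) := ⟨fun a b => by rw [hg a, hg b]⟩
        exact Module.finrank_zero_of_subsingleton
      have h1 := h (P ⧸ N)
      rw [h0, Nat.le_zero] at h1
      have := finite_hom k (R := R) (P := P) (X := P ⧸ N)
      have := Module.finrank_zero_iff (R := k).mp h1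
      have h2 : N.mkQ = 0 := Subsingleton.elim _ _
      obtain ⟨y, hy⟩ := exists_ne (0 : P ⧸ N)
      obtain ⟨x, rfl⟩ := N.mkQ_surjective y
      exact hy (by rw [h2]; rfl)
    have hgs := g.surjective_or_eq_zero.resolve_right hg
    obtain ⟨q, hq⟩ := IsSemisimpleModule.lifting_property N.mkQ N.mkQ_surjective LinearMap.id
    obtain ⟨q', hq'⟩ := IsSemisimpleModule.lifting_property g hgs LinearMap.id
    obtain ⟨eP⟩ := exists_prod_equiv _ q hq
    obtain ⟨eQ⟩ := exists_prod_equiv _ q' hq'
    have hfP : FiniteDimensional k (LinearMap.ker N.mkQ) :=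
      Module.Finite.of_injective ((LinearMap.ker N.mkQ).subtype.restrictScalars k) Subtype.val_injective
    have hfQ : FiniteDimensional k (LinearMap.ker g) :=
      Module.Finite.of_injective ((LinearMap.ker g).subtype.restrictScalars k) Subtype.val_injective
    have hdim : finrank k (LinearMap.ker N.mkQ) < n := by
      have := (eP.restrictScalars k).finrank_eq
      rw [finrank_prod, hn] at this
      have : 0 < finrank k (P ⧸ N) := finrank_pos
      omega
    obtain ⟨f, hf⟩ := ih _ hdim (P := LinearMap.ker N.mkQ) (Q := LinearMap.ker g) (fun X _ _ _ _ _ _ => by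
      have h1 := h X
      have := finite_hom k (R := R) (P := P ⧸ N) (X := X)
      have := finite_hom k (R := R) (P := LinearMap.ker N.mkQ) (X := X)
      have := finite_hom k (R := R) (P := LinearMap.ker g) (X := X)
      rw [((LinearEquiv.congrLeft X k eP).trans (LinearMap.coprodEquiv k).symm).finrank_eq,
        ((LinearEquiv.congrLeft X k eQ).trans (LinearMap.coprodEquiv k).symm).finrank_eq,
        finrank_prod, finrank_prod] at h1
      omega) rfl
    exact ⟨eP.symm.toLinearMap ∘ₗ (LinearMap.prodMap LinearMap.id f) ∘ₗ eQ.toLinearMap,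
      eP.symm.surjective.comp ((Function.surjective_id.prodMap hf).comp eQ.surjective)⟩

/-- A module `M` with `M^d ≅ R^d` is cyclic. -/
theorem exists_span_eq_top [FiniteDimensional k R] {M : Type w} [AddCommGroup M] [Module k M]
    [Module R M] [IsScalarTower k R M] [FiniteDimensional k M] {d : ℕ} (hd : 0 < d)
    (e : (Fin d → M) ≃ₗ[R] (Fin d → R)) : ∃ m : M, Submodule.span R {m} = ⊤ := by
  have : IsArtinianRing R := IsArtinianRing.of_finite k R
  have : Module.Finite R M := Module.Finite.of_restrictScalars_finite k R M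
  let N : Submodule R M := Module.jacobson R M
  let N₀ : Submodule R R := Module.jacobson R R
  have : IsSemisimpleModule R (M ⧸ N) :=
    (IsArtinian.isSemisimpleModule_iff_jacobson R _).mpr (Module.jacobson_quotient_jacobson R M)
  have : IsSemisimpleModule R (R ⧸ N₀) :=
    (IsArtinian.isSemisimpleModule_iff_jacobson R _).mpr (Module.jacobson_quotient_jacobson R R)
  have : FiniteDimensional k (M ⧸ N) :=
    Module.Finite.of_surjective (N.mkQ.restrictScalars k) N.mkQ_surjective
  have : FiniteDimensional k (R ⧸ N₀) :=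
    Module.Finite.of_surjective (N₀.mkQ.restrictScalars k) N₀.mkQ_surjective
  have key : ∀ (X : Type w) [AddCommGroup X] [Module k X] [Module R X] [IsScalarTower k R X]
      [FiniteDimensional k X] [IsSemisimpleModule R X],
      finrank k ((M ⧸ N) →ₗ[R] X) ≤ finrank k ((R ⧸ N₀) →ₗ[R] X) := by
    intro X _ _ _ _ _ _
    have := finite_hom k (R := R) (P := M) (X := X)
    have := finite_hom k (R := R) (P := R) (X := X)
    have h1 : finrank k ((M ⧸ N) →ₗ[R] X) = finrank k (M →ₗ[R] X) := by
      refine (LinearEquiv.ofBijective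
        ({ toFun := fun f => f ∘ₗ N.mkQ
           map_add' := fun _ _ => rfl
           map_smul' := fun _ _ => rfl } : ((M ⧸ N) →ₗ[R] X) →ₗ[k] (M →ₗ[R] X)) ⟨?_, ?_⟩).finrank_eq
      · exact fun a b hab => Submodule.linearMap_qext _ hab
      · exact fun f => ⟨N.liftQ f (IsSemisimpleModule.jacobson_le_ker R R _ X f), N.liftQ_mkQ f _⟩
    have h2 : finrank k ((R ⧸ N₀) →ₗ[R] X) = finrank k (R →ₗ[R] X) := by
      refine (LinearEquiv.ofBijective
        ({ toFun := fun f => f ∘ₗ N₀.mkQ
           map_add' := fun _ _ => rfl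
           map_smul' := fun _ _ => rfl } : ((R ⧸ N₀) →ₗ[R] X) →ₗ[k] (R →ₗ[R] X)) ⟨?_, ?_⟩).finrank_eq
      · exact fun a b hab => Submodule.linearMap_qext _ hab
      · exact fun f => ⟨N₀.liftQ f (IsSemisimpleModule.jacobson_le_ker R R _ X f), N₀.liftQ_mkQ f _⟩
    have h3 : finrank k (Fin d → (M →ₗ[R] X)) = finrank k (Fin d → (R →ₗ[R] X)) := by
      rw [(LinearMap.lsum R (fun _ : Fin d => M) k).finrank_eq, (LinearEquiv.congrLeft X k e).finrank_eq,
        ← (LinearMap.lsum R (fun _ : Fin d => R) k).finrank_eq]
    simp only [finrank_pi_fintype, Finset.sum_const, Finset.card_univ, Fintype.card_fin,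
      smul_eq_mul] at h3
    rw [h1, h2, Nat.eq_of_mul_eq_mul_left hd h3]
  obtain ⟨f, hf⟩ := exists_surjective_of_finrank_hom_le k key
  obtain ⟨m, hm⟩ := N.mkQ_surjective (f (N₀.mkQ 1))
  refine ⟨m, ?_⟩
  by_contra hne
  obtain ⟨L, hL, hmL⟩ := (eq_top_or_exists_le_coatom _).resolve_left hne
  apply hL.1
  rw [eq_top_iff]
  intro x _
  obtain ⟨y, hy⟩ := hf (N.mkQ x)
  obtain ⟨r, rfl⟩ := N₀.mkQ_surjective y
  have h4 : x - r • m ∈ N := by
    rw [← Submodule.ker_mkQ N, LinearMap.mem_ker, map_sub, map_smul, hm, ← hy, ← map_smul,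
      sub_eq_zero, ← map_smul, smul_eq_mul, mul_one]
  have hNL : N ≤ L := sInf_le hL
  simpa using L.add_mem (hNL h4) (L.smul_mem r (hmL (Submodule.mem_span_singleton_self m)))

end GrothLib.GalUnits21
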